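import Groth.Agent.SekSuwaH1Lib.Points
import Groth.Agent.SekSuwaTors.Main
import Groth.Agent.NoriFGSLib.Push
import Groth.Agent.TorsSeqLib.Main

/-! `H¹` of `G^(λ)` vanishes when units lift modulo `λ` and the Picard group is trivial. -/

set_option autoImplicit false
set_option backward.isDefEq.respectTransparency false
set_option backward.isDefEq.respectTransparency.types false

universe u

open CategoryTheory CategoryTheory.Limits AlgebraicGeometry MonoidalCategory CartesianMonoidalCategory SekSuwa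
  SekSuwaMonoLib
open scoped MonObj
open Groth.Agent

noncomputable section

namespace SekSuwaH1Lib

variable {R : Type u} [CommRing R] {X : Scheme.{u}} (f : X ⟶ Spec (CommRingCat.of R)) (lam : R)

/-- The closed subscheme where `λ` vanishes, over `X`. -/
abbrev lamLocus : Over X :=
  Over.mk (pullback.fst f (Spec.map (CommRingCat.ofHom (Ideal.Quotient.mk (Ideal.span ({lam} : Set R))))))

theorem cst_comp {Y Z : Scheme.{u}} (m : Y ⟶ Z) (q : Z ⟶ Spec (CommRingCat.of R)) (r : R) :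
    cst (m ≫ q) r = m.appTop (cst q r) := by
  change (m ≫ q).appTop _ = _
  rw [Scheme.Hom.comp_appTop]
  rfl

theorem cst_eq_zero {W : Over X} (z : W ⟶ lamLocus f lam) : cst (W.hom ≫ f) lam = 0 := by
  have hw : z.left ≫ pullback.fst f _ = W.hom := Over.w z
  rw [← hw, Category.assoc, pullback.condition, ← Category.assoc]
  refine (appTop_specMap (CommRingCat.ofHom (Ideal.Quotient.mk (Ideal.span ({lam} : Set R))))
    (z.left ≫ pullback.snd f _) lam).trans ?_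
  rw [CommRingCat.ofHom_apply, Ideal.Quotient.eq_zero_iff_mem.2 (Ideal.mem_span_singleton_self lam), map_zero,
      map_zero]

theorem exists_al_eq_of_affine {T : Over X} [IsAffine T.left] (v : T ⟶ Red.bc f (Red.diag R ℤ))
    (hv : ∀ (W : Over X) (m : W ⟶ T) (_ : W ⟶ lamLocus f lam), m ≫ v = 1) :
    ∃ g : T ⟶ Red.bc f (G R lam), g ≫ al f lam = v := by
  let I : Ideal Γ(T.left, ⊤) := Ideal.span {cst (T.hom ≫ f) lam}
  let i : Spec (CommRingCat.of (Γ(T.left, ⊤) ⧸ I)) ⟶ T.left :=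
    Spec.map (CommRingCat.ofHom (Ideal.Quotient.mk I)) ≫ T.left.isoSpec.inv
  let W : Over X := Over.mk (i ≫ T.hom)
  let m : W ⟶ T := Over.homMk i rfl
  have hi : ∀ a : Γ(T.left, ⊤), i.appTop a = (Scheme.ΓSpecIso _).inv (Ideal.Quotient.mk I a) := by
    intro a
    have h1 : T.left.isoSpec.inv.appTop a = (Scheme.ΓSpecIso Γ(T.left, ⊤)).inv a := by
      have e : T.left.isoSpec.inv.appTop = (Scheme.ΓSpecIso Γ(T.left, ⊤)).inv := by
        rw [← cancel_mono T.left.isoSpec.hom.appTop, ← Scheme.Hom.comp_appTop, Iso.hom_inv_id, Scheme.Hom.id_appTop,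
          Scheme.isoSpec_hom, Scheme.toSpecΓ_appTop, Iso.inv_hom_id]
      rw [e]
    change ((Spec.map _) ≫ _).appTop a = _
    rw [Scheme.Hom.comp_appTop, CommRingCat.comp_apply]
    erw [h1]
    exact (congr($(Scheme.ΓSpecIso_inv_naturality (CommRingCat.ofHom (Ideal.Quotient.mk I))) a)).symm
  have hw0 : cst (W.hom ≫ f) lam = 0 := by
    change cst ((i ≫ T.hom) ≫ f) lam = 0
    rw [Category.assoc, cst_comp, hi, Ideal.Quotient.eq_zero_iff_mem.2 (Ideal.mem_span_singleton_self _), map_zero]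
  have hz : Nonempty (W ⟶ lamLocus f lam) := by
    let φ : R ⧸ Ideal.span ({lam} : Set R) →+* Γ(W.left, ⊤) :=
      Ideal.Quotient.lift _ (cst (W.hom ≫ f)) fun a ha => by
        obtain ⟨b, rfl⟩ := Ideal.mem_span_singleton'.1 ha
        rw [map_mul, hw0, mul_zero]
    have e : W.hom ≫ f = SekSuwaGen.toAff (CommRingCat.ofHom φ) ≫
        Spec.map (CommRingCat.ofHom (Ideal.Quotient.mk (Ideal.span ({lam} : Set R)))) := by
      rw [SekSuwaGen.toAff_comp, ← SekSuwaGen.eq_toAff (W.hom ≫ f)]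
      exact congrArg SekSuwaGen.toAff (CommRingCat.hom_ext (RingHom.ext fun r => rfl))
    exact ⟨Over.homMk (pullback.lift W.hom _ e) (pullback.lift_fst _ _ _)⟩
  obtain ⟨z⟩ := hz
  have h1 := congrArg (gen f) (hv W m z)
  have h2 : (1 : W ⟶ Red.bc f (Red.diag R ℤ)) = (1 : W ⟶ Red.bc f (G R lam)) ≫ al f lam :=
    (MonObj.one_comp (al f lam)).symm
  rw [gen_comp, h2, gen_al, hw0, zero_mul, add_zero] at h1
  replace h1 : i.appTop (gen f v) = 1 := h1
  erw [hi] at h1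
  have h3 : Ideal.Quotient.mk I (gen f v) = Ideal.Quotient.mk I 1 := by
    apply (ConcreteCategory.bijective_of_isIso (Scheme.ΓSpecIso (CommRingCat.of (Γ(T.left, ⊤) ⧸ I))).inv).1
    rw [map_one, map_one]
    exact h1
  obtain ⟨c, hc⟩ := Ideal.mem_span_singleton'.1 ((Ideal.Quotient.eq).1 h3)
  exact exists_al_eq f v c (by rw [mul_comm, hc]; ring)

theorem exists_glue {Z : Over X} (W : Over X) {I : Type u} (V : I → Z.left.Opens) (hV : iSup V = ⊤)
    (v : ∀ i, Over.mk ((V i).ι ≫ Z.hom) ⟶ W)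
    (hc : ∀ i j (T : Over X) (a : T ⟶ Over.mk ((V i).ι ≫ Z.hom)) (b : T ⟶ Over.mk ((V j).ι ≫ Z.hom)),
      IsOpenImmersion a.left → a.left ≫ (V i).ι = b.left ≫ (V j).ι → a ≫ v i = b ≫ v j) :
    ∃ s : Z ⟶ W, ∀ i, (Over.homMk (V i).ι rfl : Over.mk ((V i).ι ≫ Z.hom) ⟶ Z) ≫ s = v i := by
  let 𝒰 := Z.left.openCoverOfIsOpenCover V hV
  have hcomp : ∀ i j, pullback.fst (𝒰.f i) (𝒰.f j) ≫ (v i).left = pullback.snd (𝒰.f i) (𝒰.f j) ≫ (v j).left := by
    intro i j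
    let T : Over X := Over.mk (pullback.fst (𝒰.f i) (𝒰.f j) ≫ (V i).ι ≫ Z.hom)
    let a : T ⟶ Over.mk ((V i).ι ≫ Z.hom) := Over.homMk (pullback.fst (𝒰.f i) (𝒰.f j)) rfl
    let b : T ⟶ Over.mk ((V j).ι ≫ Z.hom) := Over.homMk (pullback.snd (𝒰.f i) (𝒰.f j))
      (((Category.assoc _ _ _).symm.trans (congrArg (· ≫ Z.hom) pullback.condition.symm)).trans (Category.assoc _ _ _))
    exact congrArg CommaMorphism.left (hc i j T a b (inferInstanceAs (IsOpenImmersion (pullback.fst (𝒰.f i) (𝒰.f j)))) pullback.condition)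
  refine ⟨Over.homMk (𝒰.glueMorphisms (fun i => (v i).left) hcomp) ?_, fun i => Over.OverMorphism.ext ?_⟩
  · refine 𝒰.hom_ext _ _ fun i => ?_
    rw [← Category.assoc, 𝒰.ι_glueMorphisms]
    exact Over.w (v i)
  · exact 𝒰.ι_glueMorphisms _ hcomp i

theorem hasSection_core {G₁ G₂ P P' Z : Over X} [GrpObj G₁] [GrpObj G₂] (u : G₁ ⟶ G₂) [IsMonHom u]
    (a : AlgGrp.Action G₁ P) (hp : NonAbH1.IsPseudoTorsorSch a)
    (hzar : NonAbH1.IsLocallyTrivialFor Scheme.zariskiPrecoverage P)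
    (a' : AlgGrp.Action G₂ P') (h' : NonAbH1.IsPseudoTorsorSch a') (φ : P ⟶ P')
    (hφ' : ∀ {T : Over X} (g : T ⟶ G₁) (p : T ⟶ P),
      TorsVec.smulPt a g p ≫ φ = TorsVec.smulPt a' (g ≫ u) (p ≫ φ))
    (q : 𝟙_ (Over X) ⟶ P')
    (hinj : ∀ T : Over X, IsOpenImmersion T.hom → Function.Injective fun g : T ⟶ G₁ => g ≫ u)
    (hal0 : ∀ {W : Over X} (_ : W ⟶ Z) (g : W ⟶ G₁), g ≫ u = 1)
    (hex : ∀ (T : Over X) [IsAffine T.left] (v : T ⟶ G₂),
      (∀ (W : Over X) (m : W ⟶ T) (_ : W ⟶ Z), m ≫ v = 1) → ∃ g : T ⟶ G₁, g ≫ u = v)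
    (hlift : ∀ ν : Z ⟶ G₂, ∃ w : 𝟙_ (Over X) ⟶ G₂, toUnit Z ≫ w = ν) :
    NonAbH1.HasSectionOver P (𝟙 X) := by
  obtain ⟨Rz, hRz, hsecZ⟩ := hzar
  obtain ⟨ι', Y, gY, rfl⟩ := Rz.exists_eq_ofArrows
  rw [Scheme.ofArrows_mem_precoverage_iff] at hRz
  have key : ∀ x : X, ∃ V : X.Opens, IsAffineOpen V ∧ x ∈ V ∧ Nonempty (Over.mk (V.ι ≫ 𝟙 X) ⟶ P) := by
    intro x
    obtain ⟨i, u₀, rfl⟩ := hRz.1 x
    let g := gY i
    haveI : IsOpenImmersion g := hRz.2 i
    obtain ⟨s, hs⟩ := hsecZ g ⟨i⟩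
    obtain ⟨V, hV, hxV, hle⟩ := exists_isAffineOpen_mem_and_subset (x := g u₀) (U := g.opensRange) ⟨u₀, rfl⟩
    refine ⟨V, hV, hxV, ⟨Over.homMk (X.homOfLE hle ≫ g.isoOpensRange.inv ≫ s) ?_⟩⟩
    change (X.homOfLE hle ≫ g.isoOpensRange.inv ≫ s) ≫ P.hom = V.ι ≫ 𝟙 X
    rw [Category.assoc, Category.assoc, hs, Scheme.Hom.isoOpensRange_inv_comp, Scheme.homOfLE_ι, Category.comp_id]
  choose V hVa hVx hVs using key
  have hV : iSup V = ⊤ := eq_top_iff.2 fun x _ => TopologicalSpace.Opens.mem_iSup.2 ⟨x, hVx x⟩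
  let T : X → Over X := fun x => Over.mk ((V x).ι ≫ 𝟙 X)
  let p : ∀ x, T x ⟶ P := fun x => (hVs x).some
  let qT : ∀ T' : Over X, T' ⟶ P' := fun T' => toUnit T' ≫ q
  have hqT : ∀ {T₁ T₂ : Over X} (m : T₁ ⟶ T₂), m ≫ qT T₂ = qT T₁ := fun m => by
    show _ ≫ _ ≫ q = _ ≫ q
    rw [← Category.assoc, toUnit_unique (m ≫ toUnit _) (toUnit _)]
  choose v hv using fun x => TorsVec.exists_smulPt a' h' (qT (T x)) (p x ≫ φ)
  -- the units agree up to the image of `al`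
  have hdiff : ∀ x y (W : Over X) (m : W ⟶ T x) (m' : W ⟶ T y), ∃ g : W ⟶ G₁,
      TorsVec.smulPt a g (m ≫ p x) = m' ≫ p y ∧ (g ≫ u) * (m ≫ v x) = m' ≫ v y := by
    intro x y W m m'
    obtain ⟨g, hg⟩ := TorsVec.exists_smulPt a hp (m ≫ p x) (m' ≫ p y)
    refine ⟨g, hg, TorsVec.smulPt_injective a' h' (qT W) ?_⟩
    show TorsVec.smulPt a' _ _ = TorsVec.smulPt a' _ _
    have e1 : (m ≫ p x) ≫ φ = TorsVec.smulPt a' (m ≫ v x) (qT W) := by
      rw [Category.assoc, ← hv x, TorsVec.comp_smulPt, hqT]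
    have e2 : (m' ≫ p y) ≫ φ = TorsVec.smulPt a' (m' ≫ v y) (qT W) := by
      rw [Category.assoc, ← hv y, TorsVec.comp_smulPt, hqT]
    rw [TorsVec.mul_smulPt, ← e1, ← hφ', hg, e2]
  -- a unit of the locus of `λ`
  obtain ⟨ν, hν⟩ : ∃ ν : Z ⟶ G₂, ∀ x (W : Over X) (m : W ⟶ T x) (z : W ⟶ Z),
      m ≫ v x = z ≫ ν := by
    let Wx : X → Over X := fun x => Over.mk ((Z.hom ⁻¹ᵁ V x).ι ≫ Z.hom)
    let mx : ∀ x, Wx x ⟶ T x := fun x => Over.homMk (Z.hom ∣_ V x) (by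
      change (Z.hom ∣_ V x) ≫ (V x).ι ≫ 𝟙 X = _
      rw [Category.comp_id, morphismRestrict_ι]; rfl)
    have hagree : ∀ x y (W : Over X) (m : W ⟶ T x) (m' : W ⟶ T y) (_ : W ⟶ Z), m ≫ v x = m' ≫ v y := by
      intro x y W m m' z
      obtain ⟨g, -, hg⟩ := hdiff x y W m m'
      rw [← hg, hal0 z g, _root_.one_mul]
    have hcov : iSup (fun x => Z.hom ⁻¹ᵁ V x) = ⊤ :=
      eq_top_iff.2 fun w _ => TopologicalSpace.Opens.mem_iSup.2 ⟨Z.hom w, hVx _⟩
    obtain ⟨ν, hν⟩ := exists_glue (Z := Z) (G₂) _ hcov (fun x => mx x ≫ v x)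
      (fun x y W a b _ hab => by
        rw [← Category.assoc, ← Category.assoc]
        exact hagree x y W _ _ (a ≫ Over.homMk (Z.hom ⁻¹ᵁ V x).ι rfl))
    refine ⟨ν, fun x W m z => ?_⟩
    have hw : z.left ≫ Z.hom = m.left ≫ (V x).ι := by
      rw [Over.w z, ← Over.w m]
      exact congrArg (m.left ≫ ·) (Category.comp_id (V x).ι)
    have hr : Set.range z.left ⊆ Set.range (Z.hom ⁻¹ᵁ V x).ι := by
      rintro _ ⟨w, rfl⟩
      rw [Scheme.Opens.range_ι]
      show Z.hom (z.left w) ∈ V x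
      rw [← Scheme.Hom.comp_apply, hw, Scheme.Hom.comp_apply]
      exact (m.left w).2
    have hl := IsOpenImmersion.lift_fac (Z.hom ⁻¹ᵁ V x).ι z.left hr
    let a : W ⟶ Wx x := Over.homMk (IsOpenImmersion.lift (Z.hom ⁻¹ᵁ V x).ι z.left hr)
      ((Category.assoc _ _ _).symm.trans ((congrArg (· ≫ Z.hom) hl).trans (Over.w z)))
    have ha : a ≫ Over.homMk (Z.hom ⁻¹ᵁ V x).ι rfl = z := Over.OverMorphism.ext hl
    rw [← ha, Category.assoc, hν x, ← Category.assoc]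
    exact hagree x x W m (a ≫ mx x) z
  obtain ⟨w, hwν⟩ := hlift ν
  -- correct the sections
  have hh : ∀ x, ∃ h : T x ⟶ G₁, h ≫ u = v x * (toUnit (T x) ≫ w)⁻¹ := by
    intro x
    haveI : IsAffine (T x).left := hVa x
    refine hex _ _ fun W m z => ?_
    rw [MonObj.comp_mul, GrpObj.comp_inv, hν x W m z, ← Category.assoc, toUnit_unique (m ≫ toUnit _) (z ≫ toUnit Z),
      Category.assoc, hwν, mul_inv_cancel]
  choose h hh using hh
  let p' : ∀ x, T x ⟶ P := fun x => TorsVec.smulPt a (h x)⁻¹ (p x)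
  have hp' : ∀ x, p' x ≫ φ = TorsVec.smulPt a' (toUnit (T x) ≫ w) (qT (T x)) := fun x => by
    show TorsVec.smulPt a _ _ ≫ φ = _
    rw [hφ', ← hv x, ← TorsVec.mul_smulPt, GrpObj.inv_comp, hh x, mul_inv_rev, inv_inv,
      inv_mul_cancel_right]
  obtain ⟨s, -⟩ := exists_glue (Z := Over.mk (𝟙 X)) P V hV p' (fun x y W m m' hm hmm => by
    obtain ⟨g, hg⟩ := TorsVec.exists_smulPt a hp (m ≫ p' x) (m' ≫ p' y)
    haveI := hm
    have hW : IsOpenImmersion W.hom := by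
      rw [← Over.w m]
      exact inferInstanceAs (IsOpenImmersion (m.left ≫ ((V x).ι ≫ 𝟙 X)))
    have e : ∀ x (m : W ⟶ T x), (m ≫ p' x) ≫ φ = TorsVec.smulPt a' (toUnit W ≫ w) (qT W) := fun x m => by
      rw [Category.assoc, hp', TorsVec.comp_smulPt, hqT, ← Category.assoc, toUnit_unique (m ≫ toUnit _) (toUnit W)]
    have h1 := congrArg (· ≫ φ) hg
    simp only [hφ', e] at h1
    rw [← TorsVec.mul_smulPt] at h1
    have h2 := TorsVec.smulPt_injective a' h' (qT W) h1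
    have h3 : g ≫ u = (1 : W ⟶ G₁) ≫ u := by
      rw [MonObj.one_comp]; exact mul_eq_right.1 h2
    have h4 : g = 1 := hinj W hW h3
    rw [← hg, h4]
    exact (TorsSeqLib.act_one a _).symm)
  exact ⟨s.left, Over.w s⟩

theorem hasSection [IsDomain R] (hlam : lam ≠ 0) [Flat f]
    (hunit : Function.Surjective (Units.map
      (Limits.pullback.fst f (Spec.map (CommRingCat.ofHom (Ideal.Quotient.mk (Ideal.span ({lam} : Set R)))))).appTop.hom.toMonoidHom))
    (hpic : ∀ (Q : Over X) (b : AlgGrp.Action (Red.bc f (Red.diag R ℤ)) Q),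
      NonAbH1.IsTorsorFor Scheme.fppfPrecoverage b → NonAbH1.HasSectionOver Q (𝟙 X))
    (P : Over X) (a : AlgGrp.Action (Red.bc f (G R lam)) P)
    (hP : NonAbH1.IsTorsorFor Scheme.fppfPrecoverage a) :
    NonAbH1.HasSectionOver P (𝟙 X) := by
  haveI : IsAffineHom (Red.bc f (G R lam)).hom := by
    haveI : IsAffine (G R lam).left := isAffine_Spec _
    haveI : IsAffineHom (G R lam).hom := isAffineHom_of_isAffine _
    exact MorphismProperty.pullback_snd (P := @IsAffineHom) _ f inferInstance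
  haveI : IsAffineHom (Red.bc f (Red.diag R ℤ)).hom := by
    haveI : IsAffine (Red.diag R ℤ).left := isAffine_Spec _
    haveI : IsAffineHom (Red.diag R ℤ).hom := isAffineHom_of_isAffine _
    exact MorphismProperty.pullback_snd (P := @IsAffineHom) _ f inferInstance
  haveI : IsMonHom (al f lam) := inferInstance
  obtain ⟨hp, Rc, hRc, hsec⟩ := id hP
  obtain ⟨P', a', φ, h', hφ⟩ := Nori.exists_push (al f lam) a
    ⟨hp, Rc, Scheme.fppfPrecoverage_le_fpqcPrecoverage _ hRc, hsec⟩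
  obtain ⟨q₀, hq₀⟩ := hpic P' a' ⟨h'.1, Rc, hRc, fun S' g hg => by
    obtain ⟨s, hs⟩ := hsec g hg
    exact ⟨s ≫ φ.left, by rw [Category.assoc, Over.w φ, hs]⟩⟩
  let q : 𝟙_ (Over X) ⟶ P' := Over.homMk q₀ hq₀
  refine hasSection_core (Z := lamLocus f lam) (al f lam) a hp (SekSuwaTors.result lam f hlam P a hP).2 a' h'.1 φ
    (fun g p => hφ _ g p) q (fun T hT => ?_) (fun z g => (al_eq_one f (cst_eq_zero f lam z) g 1).trans (MonObj.one_comp _))
    (fun T _ v hv => exists_al_eq_of_affine f lam v hv) (fun ν => ?_)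
  · haveI := hT
    exact al_injective f (mem_nonZeroDivisors_of_ne_zero hlam)
  · obtain ⟨w₀, hw₀⟩ := hunit (isUnit_gen f ν).unit
    obtain ⟨w, hw⟩ := exists_gen_eq (T := 𝟙_ (Over X)) f w₀
    refine ⟨w, gen_injective f ?_⟩
    rw [gen_comp, hw]
    have e : (toUnit (lamLocus f lam)).left = (lamLocus f lam).hom := by
      simpa using Over.w (toUnit (lamLocus f lam))
    rw [e]
    exact congrArg Units.val hw₀

end SekSuwaH1Lib
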