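import Groth.Agent.SekSuwaGen.Main
import Groth.Agent.TorsVecLib.Points

/-! Points of `G^(λ)` and of the multiplicative group over a scheme over `Spec R`. -/

set_option autoImplicit false
set_option backward.isDefEq.respectTransparency false
set_option backward.isDefEq.respectTransparency.types false

universe u

open CategoryTheory CategoryTheory.Limits AlgebraicGeometry SekSuwa SekSuwaMonoLib

noncomputable section

namespace SekSuwaH1Lib

variable {R : Type u} [CommRing R] {X : Scheme.{u}} (f : X ⟶ Spec (CommRingCat.of R))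

/-- An affine scheme over `R`. -/
abbrev aff (B : Type u) [CommRing B] [Algebra R B] : Over (Spec (CommRingCat.of R)) :=
  Over.mk (Spec.map (CommRingCat.ofHom (algebraMap R B)))

variable {B : Type u} [CommRing B] [Algebra R B] {T : Over X}

/-- The functions of a point of an affine scheme. -/
def val (g : T ⟶ (Over.pullback f).obj (aff B)) : B →+* Γ(T.left, ⊤) :=
  (g.left ≫ pullback.fst (aff (R := R) B).hom f).appTop.hom.comp (Scheme.ΓSpecIso (CommRingCat.of B)).inv.hom

theorem over_eq (g : T ⟶ (Over.pullback f).obj (aff B)) :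
    (g.left ≫ pullback.fst (aff (R := R) B).hom f) ≫ (aff (R := R) B).hom = T.hom ≫ f := by
  rw [Category.assoc, pullback.condition, ← Category.assoc]
  exact congrArg (fun z => z ≫ f) (Over.w g)

theorem val_algebraMap (g : T ⟶ (Over.pullback f).obj (aff B)) (r : R) :
    val f g (algebraMap R B r) = cst (T.hom ≫ f) r := by
  conv_rhs => rw [← over_eq f g]
  exact (appTop_specMap (CommRingCat.ofHom (algebraMap R B)) (g.left ≫ pullback.fst _ f) r).symm

theorem val_injective : Function.Injective (val (T := T) (B := B) f) := by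
  intro g g' h
  haveI : IsAffine (aff (R := R) B).left := isAffine_Spec _
  refine Over.OverMorphism.ext (pullback.hom_ext ?_ ((Over.w g).trans (Over.w g').symm))
  refine ext_of_isAffine ?_
  rw [← cancel_epi (Scheme.ΓSpecIso (CommRingCat.of B)).inv]
  exact CommRingCat.hom_ext h

theorem exists_val_eq (φ : B →+* Γ(T.left, ⊤)) (hφ : ∀ r, φ (algebraMap R B r) = cst (T.hom ≫ f) r) :
    ∃ g : T ⟶ (Over.pullback f).obj (aff B), val f g = φ := by
  have hw : SekSuwaGen.toAff (CommRingCat.ofHom φ) ≫ (aff (R := R) B).hom = T.hom ≫ f := by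
    change _ ≫ Spec.map (CommRingCat.ofHom (algebraMap R B)) = _
    rw [SekSuwaGen.toAff_comp, ← SekSuwaGen.eq_toAff (T.hom ≫ f)]
    exact congrArg SekSuwaGen.toAff (CommRingCat.hom_ext (RingHom.ext hφ))
  let g : T ⟶ (Over.pullback f).obj (aff B) :=
    Over.homMk (pullback.lift (SekSuwaGen.toAff (CommRingCat.ofHom φ)) T.hom hw) (pullback.lift_snd _ _ _)
  refine ⟨g, ?_⟩
  have h1 : g.left ≫ pullback.fst (aff (R := R) B).hom f = SekSuwaGen.toAff (CommRingCat.ofHom φ) :=
    pullback.lift_fst _ _ _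
  rw [val, h1]
  exact congrArg CommRingCat.Hom.hom (SekSuwaGen.ψ_toAff (CommRingCat.ofHom φ))

theorem val_comp {T' : Over X} (m : T' ⟶ T) (g : T ⟶ (Over.pullback f).obj (aff B)) (b : B) :
    val f (m ≫ g) b = m.left.appTop (val f g b) := by
  change ((m.left ≫ g.left) ≫ pullback.fst _ _).appTop _ = _
  rw [Category.assoc, Scheme.Hom.comp_appTop]
  rfl

theorem val_map {B' : Type u} [CommRing B'] [Algebra R B'] (i : B' →+* B) (l : aff (R := R) B ⟶ aff B')
    (hl : l.left = Spec.map (CommRingCat.ofHom i)) (g : T ⟶ (Over.pullback f).obj (aff B)) (b : B') :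
    val f (g ≫ (Over.pullback f).map l) b = val f g (i b) := by
  have h1 : ((Over.pullback f).map l).left ≫ pullback.fst (aff (R := R) B').hom f = pullback.fst _ f ≫ l.left :=
    pullback.lift_fst _ _ _
  change ((g.left ≫ ((Over.pullback f).map l).left) ≫ pullback.fst _ _).appTop _ = _
  rw [Category.assoc, h1, ← Category.assoc, hl]
  exact appTop_specMap (CommRingCat.ofHom i) _ b

section Gm

/-- The unit of a point of the multiplicative group. -/
def gen (v : T ⟶ Red.bc f (Red.diag R ℤ)) : Γ(T.left, ⊤) :=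
  val (B := MonoidAlgebra R (Multiplicative ℤ)) f v (MonoidAlgebra.single (Multiplicative.ofAdd (1 : ℤ)) 1)

theorem gen_comp {T' : Over X} (m : T' ⟶ T) (v : T ⟶ Red.bc f (Red.diag R ℤ)) :
    gen f (m ≫ v) = m.left.appTop (gen f v) := val_comp f m v _

theorem isUnit_gen (v : T ⟶ Red.bc f (Red.diag R ℤ)) : IsUnit (gen f v) :=
  IsUnit.map _ (IsUnit.of_mul_eq_one (MonoidAlgebra.single (Multiplicative.ofAdd (-1 : ℤ)) 1)
    (by rw [MonoidAlgebra.single_mul_single, ← ofAdd_add, add_neg_cancel, mul_one]; rfl))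

theorem gen_injective : Function.Injective (gen (T := T) f) := by
  intro v v' h
  refine val_injective (B := MonoidAlgebra R (Multiplicative ℤ)) f ?_
  let φ := val (B := MonoidAlgebra R (Multiplicative ℤ)) f v
  let φ' := val (B := MonoidAlgebra R (Multiplicative ℤ)) f v'
  have hc : ∀ r, φ (algebraMap R _ r) = φ' (algebraMap R _ r) := fun r =>
    (val_algebraMap (B := MonoidAlgebra R (Multiplicative ℤ)) f v r).trans
      (val_algebraMap (B := MonoidAlgebra R (Multiplicative ℤ)) f v' r).symm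
  have hg : ((φ : MonoidAlgebra R (Multiplicative ℤ) →* Γ(T.left, ⊤)).comp
      (MonoidAlgebra.of R (Multiplicative ℤ))) = (φ' : MonoidAlgebra R (Multiplicative ℤ) →* _).comp
      (MonoidAlgebra.of R (Multiplicative ℤ)) := MonoidHom.ext_mint h
  refine MonoidAlgebra.ringHom_ext hc fun x => ?_
  exact DFunLike.congr_fun hg x

theorem exists_gen_eq (z : (Γ(T.left, ⊤))ˣ) : ∃ v : T ⟶ Red.bc f (Red.diag R ℤ), gen f v = z := by
  letI : Algebra R Γ(T.left, ⊤) := (cst (T.hom ≫ f)).toAlgebra
  let φ : MonoidAlgebra R (Multiplicative ℤ) →ₐ[R] Γ(T.left, ⊤) :=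
    MonoidAlgebra.lift R Γ(T.left, ⊤) (Multiplicative ℤ) ((Units.coeHom _).comp (zpowersHom _ z))
  obtain ⟨v, hv⟩ := exists_val_eq (T := T) f φ.toRingHom φ.commutes
  refine ⟨v, ?_⟩
  change val f v _ = _
  rw [hv]
  change φ _ = _
  simp [φ]

end Gm

section G

variable {lam : R}

/-- The homomorphism `α` over `X`. -/
abbrev al (lam : R) : Red.bc f (G R lam) ⟶ Red.bc f (Red.diag R ℤ) := (Over.pullback f).map (alpha R lam)

theorem gen_al (g : T ⟶ Red.bc f (G R lam)) :
    gen f (g ≫ al f lam) = 1 + cst (T.hom ≫ f) lam * val (B := A R lam) f g A.t := by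
  change val f _ _ = _
  rw [val_map (B := A R lam) (B' := MonoidAlgebra R (Multiplicative ℤ)) f
    (alphaHom R lam : MonoidAlgebra R (Multiplicative ℤ) →+* A R lam) (alpha R lam) rfl g]
  change val f g (alphaHom R lam _) = _
  rw [alphaHom_single_one, A.u_def, map_add, map_one, map_mul, val_algebraMap]

theorem al_injective [Flat (T.hom ≫ f)] (hlam : lam ∈ nonZeroDivisors R) :
    Function.Injective fun g : T ⟶ Red.bc f (G R lam) => g ≫ al f lam := by
  intro g g' h
  have h' := congrArg (gen f) h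
  rw [gen_al, gen_al, add_right_inj] at h'
  have ht := cancel_cst (T.hom ≫ f) hlam h'
  refine val_injective (B := A R lam) f ?_
  letI : Algebra R Γ(T.left, ⊤) := (cst (T.hom ≫ f)).toAlgebra
  let φ : A R lam →ₐ[R] Γ(T.left, ⊤) := { val (B := A R lam) f g with commutes' := val_algebraMap f g }
  let φ' : A R lam →ₐ[R] Γ(T.left, ⊤) := { val (B := A R lam) f g' with commutes' := val_algebraMap f g' }
  have : φ = φ' := by
    refine A.algHom_ext ht ?_
    refine (A.isUnit_u.map φ).mul_left_cancel ?_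
    have e1 : φ A.u * φ A.inv = 1 := by rw [← map_mul, A.u_mul_inv, map_one]
    have e2 : φ' A.u * φ' A.inv = 1 := by rw [← map_mul, A.u_mul_inv, map_one]
    have e3 : φ A.u = φ' A.u := by rw [A.u_def, map_add, map_add, map_mul, map_mul, map_one, map_one,
      AlgHom.commutes, AlgHom.commutes]; exact congrArg (fun z => 1 + _ * z) ht
    rw [e1, e3, e2]
  exact congrArg AlgHom.toRingHom this

theorem exists_al_eq (v : T ⟶ Red.bc f (Red.diag R ℤ)) (c : Γ(T.left, ⊤))
    (hc : gen f v = 1 + cst (T.hom ≫ f) lam * c) : ∃ g : T ⟶ Red.bc f (G R lam), g ≫ al f lam = v := by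
  letI : Algebra R Γ(T.left, ⊤) := (cst (T.hom ≫ f)).toAlgebra
  obtain ⟨d, hd⟩ := (isUnit_gen f v).exists_right_inv
  let φ : A R lam →ₐ[R] Γ(T.left, ⊤) := A.lift R lam c d (by rw [Algebra.smul_def]; exact (congrArg (· * d) hc).symm.trans hd)
  obtain ⟨g, hg⟩ := exists_val_eq (T := T) f φ.toRingHom φ.commutes
  refine ⟨g, gen_injective f ?_⟩
  rw [gen_al, hg, hc]
  change 1 + _ * φ A.t = _
  rw [A.lift_t]

theorem al_eq_one (h0 : cst (T.hom ≫ f) lam = 0) (g g' : T ⟶ Red.bc f (G R lam)) : g ≫ al f lam = g' ≫ al f lam := by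
  refine gen_injective f ?_
  rw [gen_al, gen_al, h0, zero_mul, zero_mul]

end G

end SekSuwaH1Lib
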